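import Groth.Agent.Lib.PopescuH7.Glue
import Groth.Agent.Lib.SmoothingH7.LiftFactor
import Groth.Agent.Lib.SmoothingH7.NilpInd
import Groth.Agent.Lib.SmoothingH7.Standard
import Groth.Agent.Lib.FlatDepth.HomBC
import Groth.Agent.Lib.FormalFib3.Basic
import Groth.Agent.Lib.Sep.Basic
import Groth.Agent.S2022
import Groth.Agent.S2026
import Groth.Agent.S2029
import Groth.Agent.S6823
import Groth.Agent.S6824
import Groth.Agent.Lib.RelCyc15.Length
import Mathlib.RingTheory.Noetherian.Nilpotent
import Mathlib.RingTheory.TensorProduct.Quotient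

/-!
General Néron desingularization.
-/

set_option autoImplicit false
set_option linter.style.haveILetI false

universe u

open TensorProduct

namespace Groth.Agent.PopescuH7

/-- A Noetherian geometrically regular algebra over a field is ind-smooth. -/
theorem indSmooth_field {k Λ : Type u} [Field k] [CommRing Λ] [Algebra k Λ] [IsNoetherianRing Λ]
    (hreg : CAlg.IsGeometricallyRegular k Λ) : Smoothing.IndSmooth k Λ := by
  refine indSmooth_of_resolvable fun A _ _ _ φ q _ hq => ?_
  obtain ⟨p, hp⟩ := CharP.exists k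
  rcases CharP.char_is_prime_or_zero k p with hp' | rfl
  · haveI : Fact p.Prime := ⟨hp'⟩
    exact Groth.Agent.S6824.result p hreg φ q hq
  · haveI := CharP.charP_to_charZero k
    haveI : IsRegularLocalRing (Localization.AtPrime q) :=
      Groth.Agent.FormalFib3.isRegularLocalRing_atPrime (R := k) k q (hreg k inferInstance)
    haveI : Algebra.IsGeometricallyReduced k q.ResidueField :=
      Groth.Agent.Sep.isGeometricallyReduced_of_charZero k _
    exact Groth.Agent.S6823.result φ q hq

/-- Torsion of a power of an element is that of the element in a reduced ring, and in flat algebras. -/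
theorem smul_eq_zero_of_flat {R Λ : Type u} [CommRing R] [IsReduced R] [CommRing Λ] [Algebra R Λ] [Module.Flat R Λ]
    (s : R) (x : Λ) (hx : s ^ 2 • x = 0) : s • x = 0 := by
  have hR : ∀ r : R, s ^ 2 * r = 0 → s * r = 0 := fun r hr =>
    IsReduced.eq_zero _ ⟨2, by rw [show (s * r) ^ 2 = (s ^ 2 * r) * r by ring, hr, zero_mul]⟩
  let μ : R →ₗ[R] R := LinearMap.mulLeft R (s ^ 2)
  have hex : Function.Exact ((LinearMap.ker μ).subtype) μ := LinearMap.exact_subtype_ker_map μ
  have h := Module.Flat.lTensor_exact Λ hex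
  obtain ⟨t, ht⟩ := (h (x ⊗ₜ[R] (1 : R))).1 (by
    rw [LinearMap.lTensor_tmul, show μ 1 = s ^ 2 • (1 : R) from rfl, TensorProduct.tmul_smul,
      TensorProduct.smul_tmul', hx, TensorProduct.zero_tmul])
  have key : ∀ t : Λ ⊗[R] LinearMap.ker μ,
      s • TensorProduct.rid R Λ ((LinearMap.ker μ).subtype.lTensor Λ t) = 0 := fun t => by
    induction t using TensorProduct.induction_on with
    | zero => simp
    | tmul y r =>
      rw [LinearMap.lTensor_tmul, TensorProduct.rid_tmul, smul_smul, Submodule.subtype_apply,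
        hR r.1 (LinearMap.mem_ker.1 r.2), zero_smul]
    | add a b ha hb => rw [map_add, map_add, smul_add, ha, hb, add_zero]
  have h2 := key t
  rw [ht, TensorProduct.rid_tmul, one_smul] at h2
  exact h2

/-- The fibre of a regular homomorphism over a quotient of the base, as a quotient of the target. -/
theorem indSmooth_quotient {R Λ : Type u} [CommRing R] [CommRing Λ] [Algebra R Λ] (I : Ideal R)
    (h : Smoothing.IndSmooth (R ⧸ I) ((R ⧸ I) ⊗[R] Λ)) :
    Smoothing.IndSmooth (R ⧸ I) (Λ ⧸ I.map (algebraMap R Λ)) :=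
  Groth.Agent.Lib.SmoothingH7.indSmooth_of_equiv (RingEquiv.refl _)
    (Algebra.TensorProduct.quotIdealMapEquivQuotTensor Λ I).symm.toRingEquiv
    (fun r => (Algebra.TensorProduct.quotIdealMapEquivQuotTensor Λ I).symm.commutes r) h

/-- A regular map to a nilpotent-free base, given the result for proper quotients of the base. -/
theorem exists_factor_reduced {R Λ : Type u} [CommRing R] [IsNoetherianRing R] [IsReduced R] [CommRing Λ]
    [IsNoetherianRing Λ] [Algebra R Λ] (hreg : CAlg.IsRegularHom R Λ)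
    (ih : ∀ J : Ideal R, J ≠ ⊥ → Smoothing.IndSmooth (R ⧸ J) (Λ ⧸ J.map (algebraMap R Λ)))
    (p : Ideal R) (hp : p ∈ minimalPrimes R)
    (A : Type u) [CommRing A] [Algebra R A] [Algebra.FinitePresentation R A] (φ : A →ₐ[R] Λ) :
    ∃ (B : Type u) (_ : CommRing B) (_ : Algebra R B), Algebra.Smooth R B ∧
      ∃ (g : A →ₐ[R] B) (h : B →ₐ[R] Λ), h.comp g = φ := by
  classical
  haveI : p.IsPrime := hp.1.1
  haveI := hreg.1
  have hF : IsField (Localization.AtPrime p) :=
    Groth.Agent.RelCyc15.isField_localization_of_minimalPrimes p hp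
  let Kp := p.ResidueField
  haveI : IsLocalization p.primeCompl Kp := by
    have hbij : Function.Bijective (IsScalarTower.toAlgHom R (Localization.AtPrime p) Kp) :=
      ⟨by
        letI := hF.toField
        exact RingHom.injective (algebraMap (Localization.AtPrime p) Kp), IsLocalRing.residue_surjective⟩
    exact IsLocalization.isLocalization_of_algEquiv p.primeCompl (AlgEquiv.ofBijective _ hbij)
  haveI : IsNoetherianRing (Kp ⊗[R] Λ) := (hreg.2 p).1
  obtain ⟨B', _, _, hB', g', h', hgh'⟩ := indSmooth_field (hreg.2 p).2 (Kp ⊗[R] A) inferInstance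
    (Algebra.TensorProduct.map (AlgHom.id Kp Kp) φ)
  haveI := hB'
  obtain ⟨B₁, _, _, α, β, hαβ, s, hs, P, hP⟩ := Groth.Agent.S2029.result φ p.primeCompl g' h' hgh'
  have hstd : Smoothing.IsStrictlyStandard R B₁ (algebraMap R B₁ s) :=
    Groth.Agent.Lib.SmoothingH7.isStrictlyStandard_of_elementary _ ⟨P, hP⟩
  haveI : Algebra.FinitePresentation R B₁ :=
    Algebra.FinitePresentation.of_surjective (f := P.hom) P.surj (by
      show (RingHom.ker P.hom.toRingHom).FG
      rw [P.ker_eq]
      exact Submodule.fg_span (Set.finite_range _))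
  let p8 : R := (s ^ 4) ^ 2
  have hs8 : Ideal.span {p8} ≠ ⊥ := by
    rw [Ne, Ideal.span_singleton_eq_bot]
    intro h0
    exact hs ((inferInstance : p.IsPrime).mem_of_pow_mem 4 ((inferInstance : p.IsPrime).mem_of_pow_mem 2
      (show (s ^ 4) ^ 2 ∈ p by rw [show (s ^ 4) ^ 2 = 0 from h0]; exact zero_mem _)))
  let K := Ideal.span {p8}
  let JΛ := K.map (algebraMap R Λ)
  let JB := K.map (algebraMap R B₁)
  haveI : Algebra.FinitePresentation (R ⧸ K) (B₁ ⧸ JB) := by
    haveI : Algebra.FiniteType R (B₁ ⧸ JB) := inferInstance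
    haveI : Algebra.FiniteType (R ⧸ K) (B₁ ⧸ JB) :=
      Algebra.FiniteType.of_restrictScalars_finiteType R (R ⧸ K) _
    exact Algebra.FinitePresentation.of_finiteType.1 inferInstance
  let βK : (B₁ ⧸ JB) →ₐ[R ⧸ K] Λ ⧸ JΛ :=
    { Ideal.quotientMap JΛ β.toRingHom (Ideal.map_le_iff_le_comap.1 (le_of_eq (by
        rw [Ideal.map_map]; exact congrArg (fun g => Ideal.map g K) β.comp_algebraMap))) with
      commutes' := fun z => by
        obtain ⟨z, rfl⟩ := Ideal.Quotient.mk_surjective z
        exact congrArg (Ideal.Quotient.mk _) (β.commutes z) }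
  obtain ⟨C₀, _, _, hC₀, γ₀, g₀, hg₀⟩ := ih K hs8 (B₁ ⧸ JB) inferInstance βK
  haveI := hC₀
  letI : Algebra R C₀ := ((algebraMap (R ⧸ K) C₀).comp (Ideal.Quotient.mk K)).toAlgebra
  haveI : IsScalarTower R (R ⧸ K) C₀ := IsScalarTower.of_algebraMap_eq' rfl
  have hJeq : JΛ = Ideal.span {algebraMap R Λ p8} := by rw [show JΛ = _ from Ideal.map_span _ _, Set.image_singleton]
  let eJ : (Λ ⧸ JΛ) ≃ₐ[R] Λ ⧸ Ideal.span {algebraMap R Λ p8} := Ideal.quotientEquivAlgOfEq R hJeq
  let γ : B₁ →ₐ[R] C₀ := (γ₀.restrictScalars R).comp (Ideal.Quotient.mkₐ R JB)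
  let g : C₀ →ₐ[R] Λ ⧸ Ideal.span {algebraMap R Λ p8} := eJ.toAlgHom.comp (g₀.restrictScalars R)
  have hfac : ∀ a, g (γ a) = Ideal.Quotient.mk _ (β a) := fun a => by
    show eJ (g₀ (γ₀ (Ideal.Quotient.mk JB a))) = _
    rw [← AlgHom.comp_apply g₀ γ₀, hg₀]
    rfl
  obtain ⟨B₂, _, _, hfp, α₂, β₂, hαβ₂, hoff, hsing⟩ :=
    Groth.Agent.Lib.SmoothingH7.exists_factor_of_mod s
      (fun r hr => IsReduced.eq_zero _ ⟨2, by rw [show (s * r) ^ 2 = (s ^ 2 * r) * r by ring, hr, zero_mul]⟩)
      (smul_eq_zero_of_flat s) β hstd p8 rfl γ g hfac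
  haveI := hfp
  have hCtop : Smoothing.singularIdeal (R ⧸ K) C₀ = ⊤ := by
    rw [Ideal.eq_top_iff_one, Groth.Agent.Lib.SmoothingH7.mem_singularIdeal_iff]
    haveI : Algebra.FormallyEtale C₀ (Localization.Away (1 : C₀)) :=
      Algebra.FormallyEtale.of_isLocalization (Submonoid.powers (1 : C₀))
    exact Algebra.FormallySmooth.comp (R ⧸ K) C₀ _
  rw [show Smoothing.singularIdeal (R ⧸ Ideal.span {p8}) C₀ = ⊤ from hCtop, Ideal.map_top] at hsing
  have hπ : algebraMap R Λ p8 ∈ Smoothing.singRad R β₂ := by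
    rw [← β₂.commutes]
    refine Ideal.le_radical (Ideal.mem_map_of_mem β₂ ?_)
    show algebraMap R B₂ ((s ^ 4) ^ 2) ∈ _
    rw [map_pow, map_pow]
    refine Ideal.pow_mem_of_mem _ (Ideal.pow_mem_of_mem _ ?_ 4 (by norm_num)) 2 (by norm_num)
    refine (PrimeSpectrum.mem_vanishingIdeal _ _).2 fun Q hQ => ?_
    by_contra h
    exact hQ (hoff Q.asIdeal h)
  have htop : Smoothing.singRad R β₂ = ⊤ := by
    rw [Ideal.eq_top_iff_one]
    obtain ⟨y, hy, hy1⟩ := (Ideal.mem_map_iff_of_surjective _ Ideal.Quotient.mk_surjective).1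
      (hsing (Submodule.mem_top : (1 : Λ ⧸ Ideal.span {algebraMap R Λ p8}) ∈ ⊤))
    rw [← map_one (Ideal.Quotient.mk (Ideal.span {algebraMap R Λ p8})), Ideal.Quotient.eq,
      Ideal.mem_span_singleton'] at hy1
    obtain ⟨c, hc⟩ := hy1
    rw [show (1 : Λ) = y - c * algebraMap R Λ p8 by rw [hc]; ring]
    exact sub_mem hy (Ideal.mul_mem_left _ _ hπ)
  obtain ⟨B, _, _, hB, g₃, h₃, hgh₃⟩ := exists_smooth_of_singRad_eq_top β₂ htop
  exact ⟨B, inferInstance, inferInstance, hB, g₃.comp (α₂.comp α), h₃, by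
    rw [← AlgHom.comp_assoc, hgh₃, ← AlgHom.comp_assoc, hαβ₂, hαβ]⟩

/-- General Néron desingularization. -/
theorem indSmooth_of_isRegularHom {R Λ : Type u} [CommRing R] [IsNoetherianRing R] [CommRing Λ]
    [IsNoetherianRing Λ] [Algebra R Λ] (hreg : CAlg.IsRegularHom R Λ) : Smoothing.IndSmooth R Λ := by
  suffices ∀ (I : Ideal R) (R' : Type u) [CommRing R'] (pr : R →+* R'), Function.Surjective pr →
      RingHom.ker pr = I → ∀ (Λ' : Type u) [CommRing Λ'] [IsNoetherianRing Λ'] [Algebra R' Λ'],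
        CAlg.IsRegularHom R' Λ' → Smoothing.IndSmooth R' Λ' from
    this _ R (RingHom.id R) Function.surjective_id rfl Λ hreg
  intro I
  induction I using IsWellFounded.induction (α := Ideal R) (· > ·) with
  | ind I ih =>
    intro R' _ pr hpr hker Λ' _ _ _ hreg'
    haveI : IsNoetherianRing R' := isNoetherianRing_of_surjective R R' pr hpr
    haveI := hreg'.1
    have hstep : ∀ J : Ideal R', J ≠ ⊥ → Smoothing.IndSmooth (R' ⧸ J) (Λ' ⧸ J.map (algebraMap R' Λ')) := by
      intro J hJ
      haveI : IsNoetherianRing ((R' ⧸ J) ⊗[R'] Λ') :=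
        isNoetherianRing_of_ringEquiv _ (Algebra.TensorProduct.quotIdealMapEquivQuotTensor Λ' J).toRingEquiv
      refine indSmooth_quotient J (ih (RingHom.ker ((Ideal.Quotient.mk J).comp pr)) ?_ (R' ⧸ J)
        ((Ideal.Quotient.mk J).comp pr) (Ideal.Quotient.mk_surjective.comp hpr) rfl _
        (Groth.Agent.FlatDepth.isRegularHom_baseChange R' Λ' (R' ⧸ J) hreg'))
      refine lt_of_le_of_ne (fun x hx => ?_) fun he => hJ (eq_bot_iff.2 fun y hy => ?_)
      · rw [← hker, RingHom.mem_ker] at hx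
        rw [RingHom.mem_ker, RingHom.comp_apply, hx, map_zero]
      · obtain ⟨x, rfl⟩ := hpr y
        have hx : x ∈ RingHom.ker ((Ideal.Quotient.mk J).comp pr) := by
          rw [RingHom.mem_ker, RingHom.comp_apply, Ideal.Quotient.eq_zero_iff_mem]
          exact hy
        rw [← he, ← hker, RingHom.mem_ker] at hx
        rw [hx]
        exact zero_mem _
    by_cases hnil : nilradical R' = ⊥
    · haveI : IsReduced R' := nilradical_eq_bot_iff.1 hnil
      rcases subsingleton_or_nontrivial R' with hs | hn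
      · intro A _ _ hA φ
        haveI := hA
        refine exists_smooth_of_singRad_eq_top φ ?_
        haveI : Subsingleton Λ' := subsingleton_of_zero_eq_one (by
          rw [← map_one (algebraMap R' Λ'), ← map_zero (algebraMap R' Λ'), Subsingleton.elim (0 : R') 1])
        exact Subsingleton.elim _ _
      · obtain ⟨p, hp⟩ : (minimalPrimes R').Nonempty := Set.nonempty_coe_sort.1 (Ideal.nonempty_minimalPrimes bot_ne_top)
        intro A _ _ hA φ
        haveI := hA
        exact exists_factor_reduced hreg' hstep p hp A φ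
    · exact Groth.Agent.S2022.result (nilradical R') (IsNoetherianRing.isNilpotent_nilradical R') (hstep _ hnil)

end Groth.Agent.PopescuH7
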