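import Groth.Agent.Lib.SmoothingH7.PowAlg
import Mathlib.RingTheory.Smooth.Basic
import Mathlib.RingTheory.Localization.Away.Basic

/-!
Resolvable everywhere implies ind-smooth.
-/

set_option autoImplicit false
set_option linter.style.haveILetI false

universe u

open MvPolynomial

namespace Groth.Agent.PopescuH7

open Groth.Agent.Lib.SmoothingH7

/-- A problem with unit singular radical has a smooth solution. -/
theorem exists_smooth_of_singRad_eq_top {R A Λ : Type u} [CommRing R] [CommRing A] [Algebra R A]
    [Algebra.FinitePresentation R A] [CommRing Λ] [Algebra R Λ] (φ : A →ₐ[R] Λ)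
    (htop : Smoothing.singRad R φ = ⊤) :
    ∃ (B : Type u) (_ : CommRing B) (_ : Algebra R B), Algebra.Smooth R B ∧
      ∃ (g : A →ₐ[R] B) (h : B →ₐ[R] Λ), h.comp g = φ := by
  classical
  rw [Smoothing.singRad, Ideal.radical_eq_top, Ideal.eq_top_iff_one] at htop
  obtain ⟨N, lam, v, hsum⟩ := Submodule.mem_span_set'.1 htop
  choose h hh hv using fun i => (v i).2
  have hsum : ∑ i, lam i * φ (h i) = 1 :=
    (Finset.sum_congr rfl fun i _ => by rw [hv i, smul_eq_mul]).trans hsum
  let M := MvPolynomial (Fin N) A
  let rel : M := 1 - ∑ i, C (h i) * X i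
  let B := M ⧸ Ideal.span {rel}
  haveI : Algebra.FinitePresentation R M := Algebra.FinitePresentation.trans R A M
  haveI : Algebra.FinitePresentation R B :=
    Algebra.FinitePresentation.quotient (Submodule.fg_span_singleton rel)
  let π : M →+* B := Ideal.Quotient.mk _
  have hrel : ∑ i, π (C (h i)) * π (X i) = 1 := by
    have : π rel = 0 := Ideal.Quotient.eq_zero_iff_mem.2 (Ideal.mem_span_singleton_self rel)
    rw [map_sub, map_one, map_sum, sub_eq_zero] at this
    rw [this]
    exact Finset.sum_congr rfl fun i _ => (map_mul _ _ _).symm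
  have hmem : ∀ l, algebraMap A B (h l) ∈ Smoothing.singularIdeal R B := fun l => by
    refine (mem_singularIdeal_iff _).2 (Algebra.FormallySmooth.iff_comp_surjective.2 fun Q _ _ I hI f => ?_)
    haveI := (mem_singularIdeal_iff (h l)).1 (hh l)
    let L := Localization.Away (algebraMap A B (h l))
    let fA : A →ₐ[R] Q ⧸ I := (f.comp (IsScalarTower.toAlgHom R B L)).comp (IsScalarTower.toAlgHom R A B)
    have hu : IsUnit (fA (h l)) := (IsLocalization.Away.algebraMap_isUnit (S := L) (algebraMap A B (h l))).map f
    let fL : Localization.Away (h l) →ₐ[R] Q ⧸ I := IsLocalization.liftAlgHom (f := fA) (M := Submonoid.powers (h l))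
      (by rintro ⟨_, j, rfl⟩; rw [map_pow]; exact hu.pow j)
    obtain ⟨gL, hgL⟩ := Algebra.FormallySmooth.comp_surjective R (Localization.Away (h l)) I hI fL
    let gA : A →ₐ[R] Q := gL.comp (IsScalarTower.toAlgHom R A _)
    have hgA : ∀ z, Ideal.Quotient.mk I (gA z) = fA z := fun z =>
      (DFunLike.congr_fun hgL (algebraMap A _ z)).trans (IsLocalization.lift_eq _ z)
    obtain ⟨u, hu'⟩ : IsUnit (gA (h l)) := (IsLocalization.Away.algebraMap_isUnit (S := Localization.Away (h l)) (h l)).map gL
    choose z₀ hz₀ using fun j => Ideal.Quotient.mk_surjective (I := I) (f (algebraMap B L (π (X j))))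
    let z : Fin N → Q := fun j =>
      if j = l then ↑u⁻¹ * (1 - ∑ j' ∈ Finset.univ.erase l, gA (h j') * z₀ j') else z₀ j
    have hz : ∑ j, gA (h j) * z j = 1 := by
      rw [← Finset.add_sum_erase _ _ (Finset.mem_univ l),
        Finset.sum_congr rfl fun j hj => show gA (h j) * z j = gA (h j) * z₀ j by
          simp only [z, if_neg (Finset.ne_of_mem_erase hj)]]
      simp only [z, if_pos, ← hu', Units.mul_inv_cancel_left, sub_add_cancel]
    let gM : M →+* Q := eval₂Hom gA.toRingHom z
    have hker : ∀ x ∈ Ideal.span {rel}, gM x = 0 := fun x hx => by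
      obtain ⟨c, rfl⟩ := Ideal.mem_span_singleton'.1 hx
      have h0 : gM rel = 0 := by
        show gM (1 - ∑ i, C (h i) * X i) = 0
        rw [map_sub, map_one, map_sum, Finset.sum_congr rfl fun i _ => show gM (C (h i) * X i) = gA (h i) * z i by
          rw [map_mul, show gM (C (h i)) = gA (h i) from eval₂Hom_C _ _ _, show gM (X i) = z i from eval₂Hom_X' _ _ _], hz,
          sub_self]
      rw [map_mul, h0, mul_zero]
    let gB : B →ₐ[R] Q :=
      { Ideal.Quotient.lift _ gM hker with
        commutes' := fun r => by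
          show gM (algebraMap R M r) = _
          rw [IsScalarTower.algebraMap_apply R A M, MvPolynomial.algebraMap_eq]
          exact (eval₂Hom_C _ _ _).trans (gA.commutes r) }
    have hcong : ∀ b, Ideal.Quotient.mk I (gB b) = f (algebraMap B L b) := by
      intro b
      obtain ⟨m, rfl⟩ := Ideal.Quotient.mk_surjective b
      show Ideal.Quotient.mk I (gM m) = f (algebraMap B L (π m))
      refine RingHom.congr_fun (MvPolynomial.ringHom_ext (f := (Ideal.Quotient.mk I).comp gM)
        (g := f.toRingHom.comp ((algebraMap B L).comp π)) (fun x => ?_) (fun j => ?_)) m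
      · show Ideal.Quotient.mk I (gM (C x)) = f (algebraMap B L (π (C x)))
        rw [show gM (C x) = gA x from eval₂Hom_C _ _ _, hgA]
        rfl
      · show Ideal.Quotient.mk I (gM (X j)) = f (algebraMap B L (π (X j)))
        rw [show gM (X j) = z j from eval₂Hom_X' _ _ _]
        by_cases hj : j = l
        · subst hj
          refine hu.mul_left_cancel ?_
          have e2 := congrArg (fun b => f (algebraMap B L b)) hrel
          simp only [map_sum, map_mul, map_one] at e2
          rw [← Finset.add_sum_erase _ _ (Finset.mem_univ j)] at e2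
          show fA (h j) * _ = f (algebraMap B L (π (C (h j)))) * _
          rw [eq_sub_of_add_eq e2, ← hgA, ← map_mul]
          simp only [z, if_pos, ← hu', Units.mul_inv_cancel_left]
          rw [map_sub, map_one, map_sum]
          congr 1
          exact Finset.sum_congr rfl fun j' _ => by rw [map_mul, hgA, hz₀]; rfl
        · simp only [z, if_neg hj]
          exact hz₀ j
    refine ⟨IsLocalization.liftAlgHom (f := gB) (M := Submonoid.powers (algebraMap A B (h l))) ?_, ?_⟩
    · rintro ⟨_, j, rfl⟩
      rw [map_pow]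
      refine IsUnit.pow j ?_
      show IsUnit (gM (C (h l)))
      rw [show gM (C (h l)) = gA (h l) from eval₂Hom_C _ _ _]
      exact ⟨u, hu'⟩
    · refine AlgHom.coe_ringHom_injective (IsLocalization.ringHom_ext (Submonoid.powers (algebraMap A B (h l))) (RingHom.ext fun b => ?_))
      show Ideal.Quotient.mk I (IsLocalization.liftAlgHom _ (algebraMap B L b)) = f (algebraMap B L b)
      rw [IsLocalization.liftAlgHom_apply, IsLocalization.lift_eq]
      exact hcong b
  have h1 : (1 : B) ∈ Smoothing.singularIdeal R B := by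
    rw [← hrel]
    exact Ideal.sum_mem _ fun i _ => Ideal.mul_mem_right _ _ (hmem i)
  haveI := (mem_singularIdeal_iff (1 : B)).1 h1
  haveI : Algebra.FormallySmooth R B := Algebra.FormallySmooth.of_equiv
    ((IsLocalization.atUnits B (Submonoid.powers (1 : B)) (S := Localization.Away (1 : B))
      (by rintro _ ⟨j, rfl⟩; simp)).symm.restrictScalars R)
  let e : M →ₐ[R] Λ :=
    { eval₂Hom φ.toRingHom lam with
      commutes' := fun r => by
        show eval₂Hom φ.toRingHom lam (algebraMap R M r) = _
        rw [IsScalarTower.algebraMap_apply R A M, MvPolynomial.algebraMap_eq, eval₂Hom_C]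
        exact φ.commutes r }
  let hB : B →ₐ[R] Λ := Ideal.Quotient.liftₐ _ e fun x hx => by
    obtain ⟨c, rfl⟩ := Ideal.mem_span_singleton'.1 hx
    have h0 : e rel = 0 := by
      show e (1 - ∑ i, C (h i) * X i) = 0
      rw [map_sub, map_one, map_sum, Finset.sum_congr rfl fun i _ => show e (C (h i) * X i) = lam i * φ (h i) by
        rw [map_mul, show e (C (h i)) = φ (h i) from eval₂Hom_C _ _ _, show e (X i) = lam i from eval₂Hom_X' _ _ _,
          mul_comm], hsum, sub_self]
    rw [map_mul, h0, mul_zero]
  refine ⟨B, inferInstance, inferInstance, ⟨inferInstance, inferInstance⟩, IsScalarTower.toAlgHom R A B, hB,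
    AlgHom.ext fun a => ?_⟩
  show eval₂Hom φ.toRingHom lam (C a) = φ a
  exact eval₂Hom_C _ _ _

/-- If every problem can be resolved at every minimal prime, the target is ind-smooth. -/
theorem indSmooth_of_resolvable {R Λ : Type u} [CommRing R] [CommRing Λ] [IsNoetherianRing Λ] [Algebra R Λ]
    (h : ∀ (A : Type u) [CommRing A] [Algebra R A] [Algebra.FinitePresentation R A] (φ : A →ₐ[R] Λ)
      (q : Ideal Λ) [q.IsPrime], q ∈ (Smoothing.singRad R φ).minimalPrimes → Smoothing.Resolvable R φ q) :
    Smoothing.IndSmooth R Λ := by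
  suffices ∀ (J : Ideal Λ) (A : Type u) [CommRing A] [Algebra R A] [Algebra.FinitePresentation R A]
      (φ : A →ₐ[R] Λ), Smoothing.singRad R φ = J →
      ∃ (B : Type u) (_ : CommRing B) (_ : Algebra R B), Algebra.Smooth R B ∧
        ∃ (g : A →ₐ[R] B) (h : B →ₐ[R] Λ), h.comp g = φ from
    fun A _ _ hA φ => @this _ A _ _ hA φ rfl
  intro J
  induction J using IsWellFounded.induction (α := Ideal Λ) (· > ·) with
  | ind J ih =>
    intro A _ _ _ φ hJ
    by_cases htop : J = ⊤
    · exact exists_smooth_of_singRad_eq_top φ (hJ.trans htop)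
    obtain ⟨q, hq⟩ := Ideal.nonempty_minimalPrimes (hJ ▸ htop : Smoothing.singRad R φ ≠ ⊤)
    haveI : q.IsPrime := hq.1.1
    obtain ⟨B, _, _, hB, g, h', hgh, hle, hnle⟩ := h A φ q hq
    haveI := hB
    have hlt : J < Smoothing.singRad R h' := hJ ▸ lt_of_le_not_ge hle fun hge => hnle (hge.trans hq.1.2)
    obtain ⟨C, _, _, hC, g', h'', hgh'⟩ := ih _ hlt B h' rfl
    exact ⟨C, inferInstance, inferInstance, hC, g'.comp g, h'', by rw [← AlgHom.comp_assoc, hgh', hgh]⟩

end Groth.Agent.PopescuH7
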